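import Mathlib
import Groth.Agent.GenDeg86.Basic
import Groth.Agent.DVRDom.Basic
import Groth.Agent.Depth.CM
import Groth.Agent.RegLoc.Miracle
import Groth.Agent.Dim.LocalHom
import Groth.Agent.Wt.GeomPts

/-!
# The rank of a finite fibre of a flat quasi-finite separated morphism is at most the degree
-/

set_option autoImplicit false
set_option linter.style.haveILetI false
set_option backward.isDefEq.respectTransparency false
set_option backward.isDefEq.respectTransparency.types false
set_option maxHeartbeats 1000000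

universe u

open CategoryTheory Limits AlgebraicGeometry
open scoped TensorProduct

noncomputable section

namespace Groth.Agent.FibRankLe

variable {F : Type u} [CommRing F] {P : Scheme.{u}}

/-- The structure of an algebra on global sections. -/
@[reducible] def algOf (q : P ⟶ Spec (CommRingCat.of F)) : Algebra F Γ(P, ⊤) :=
  ((Scheme.ΓSpecIso (CommRingCat.of F)).inv ≫ q.appTop).hom.toAlgebra

/-- The rank of the ring of global sections. -/
def rk (q : P ⟶ Spec (CommRingCat.of F)) : ℕ :=
  letI := algOf q
  Module.finrank F Γ(P, ⊤)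

theorem sections_isPushout {E : Type u} [CommRing E] [Algebra F E] {P' : Scheme.{u}}
    (q : P ⟶ Spec (CommRingCat.of F)) (a : P' ⟶ P) (q' : P' ⟶ Spec (CommRingCat.of E))
    (h : IsPullback a q' q (Spec.map (CommRingCat.ofHom (algebraMap F E))))
    (hP : IsAffine P ∨ (CompactSpace P ∧ QuasiSeparatedSpace P ∧
      Flat (Spec.map (CommRingCat.ofHom (algebraMap F E))))) :
    IsPushout (CommRingCat.ofHom (algOf q).algebraMap) (CommRingCat.ofHom (algebraMap F E))
      a.appTop (CommRingCat.ofHom (algOf q').algebraMap) := by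
  have hT : (⊤ : (Spec (CommRingCat.of E)).Opens) ≤
      Spec.map (CommRingCat.ofHom (algebraMap F E)) ⁻¹ᵁ ⊤ := le_of_eq rfl
  have hX : (⊤ : P.Opens) ≤ q ⁻¹ᵁ ⊤ := le_of_eq rfl
  have hY : (⊤ : P'.Opens) = a ⁻¹ᵁ ⊤ ⊓ q' ⁻¹ᵁ ⊤ := by simp
  haveI : IsIso (pushoutSection h hT hX hY) := by
    rcases hP with hP | ⟨h1, h2, h3⟩
    · exact isIso_pushoutSection_of_isAffineOpen h hT hX hY (isAffineOpen_top _) (isAffineOpen_top _)
        (isAffineOpen_top _)
    · exact isIso_pushoutSection_of_isQuasiSeparated_of_flat_right h hT hX hY (isAffineOpen_top _)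
        (isAffineOpen_top _) isCompact_univ (isQuasiSeparated_univ_iff.mpr h2)
  have sq := (isIso_pushoutSection_iff h hT hX hY).mp inferInstance
  refine sq.of_iso (Scheme.ΓSpecIso (CommRingCat.of F)) (Iso.refl _)
    (Scheme.ΓSpecIso (CommRingCat.of E)) (Iso.refl _) ?_ ?_ ?_ ?_
  · rw [Iso.refl_hom, Category.comp_id, ← Iso.inv_comp_eq,
      show q.appLE ⊤ ⊤ hX = q.appTop from (Scheme.Hom.app_eq_appLE q).symm]
    rfl
  · rw [show (Spec.map (CommRingCat.ofHom (algebraMap F E))).appLE ⊤ ⊤ hT =
      (Spec.map (CommRingCat.ofHom (algebraMap F E))).appTop from (Scheme.Hom.app_eq_appLE _).symm]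
    exact Scheme.ΓSpecIso_naturality _
  · simp only [Iso.refl_hom, Category.comp_id]
    exact (Scheme.Hom.app_eq_appLE a).symm
  · rw [Iso.refl_hom, Category.comp_id, ← Iso.inv_comp_eq,
      show q'.appLE ⊤ ⊤ (le_of_eq rfl) = q'.appTop from (Scheme.Hom.app_eq_appLE q').symm]
    rfl

theorem sections_isPushout_w {E : Type u} [CommRing E] [Algebra F E] {P' : Scheme.{u}}
    (q : P ⟶ Spec (CommRingCat.of F)) (a : P' ⟶ P) (q' : P' ⟶ Spec (CommRingCat.of E))
    (h : IsPullback a q' q (Spec.map (CommRingCat.ofHom (algebraMap F E)))) :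
    CommRingCat.ofHom (algOf q).algebraMap ≫ a.appTop =
      CommRingCat.ofHom (algebraMap F E) ≫ CommRingCat.ofHom (algOf q').algebraMap := by
  show ((Scheme.ΓSpecIso (CommRingCat.of F)).inv ≫ q.appTop) ≫ a.appTop =
    CommRingCat.ofHom (algebraMap F E) ≫ (Scheme.ΓSpecIso (CommRingCat.of E)).inv ≫ q'.appTop
  rw [Category.assoc, ← Scheme.Hom.comp_appTop, h.w, Scheme.Hom.comp_appTop,
    ← Scheme.ΓSpecIso_inv_naturality_assoc]

theorem exists_isBaseChange {E : Type u} [CommRing E] [Algebra F E] {P' : Scheme.{u}}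
    (q : P ⟶ Spec (CommRingCat.of F)) (a : P' ⟶ P) (q' : P' ⟶ Spec (CommRingCat.of E))
    (h : IsPullback a q' q (Spec.map (CommRingCat.ofHom (algebraMap F E))))
    (hP : IsAffine P ∨ (CompactSpace P ∧ QuasiSeparatedSpace P ∧
      Flat (Spec.map (CommRingCat.ofHom (algebraMap F E))))) :
    letI := algOf q; letI := algOf q'
    Nonempty (E ⊗[F] Γ(P, ⊤) ≃ₗ[E] Γ(P', ⊤)) := by
  letI := algOf q
  letI := algOf q'
  have sq := (sections_isPushout q a q' h hP).flip
  letI algF : Algebra F Γ(P', ⊤) := ((algebraMap E Γ(P', ⊤)).comp (algebraMap F E)).toAlgebra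
  haveI : IsScalarTower F E Γ(P', ⊤) := IsScalarTower.of_algebraMap_eq' rfl
  letI : Algebra Γ(P, ⊤) Γ(P', ⊤) := a.appTop.hom.toAlgebra
  haveI : IsScalarTower F Γ(P, ⊤) Γ(P', ⊤) := IsScalarTower.of_algebraMap_eq fun c =>
    congrArg (fun φ : CommRingCat.of F ⟶ Γ(P', ⊤) => φ.hom c) sq.w
  haveI : Algebra.IsPushout F E Γ(P, ⊤) Γ(P', ⊤) := CommRingCat.isPushout_iff_isPushout.mp sq
  exact ⟨(Algebra.IsPushout.equiv F E Γ(P, ⊤) Γ(P', ⊤)).toLinearEquiv⟩

theorem rk_baseChange {F E : Type u} [Field F] [Field E] [Algebra F E] {P P' : Scheme.{u}}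
    (q : P ⟶ Spec (CommRingCat.of F)) (a : P' ⟶ P) (q' : P' ⟶ Spec (CommRingCat.of E))
    (h : IsPullback a q' q (Spec.map (CommRingCat.ofHom (algebraMap F E)))) [IsAffine P] :
    rk q' = rk q := by
  letI := algOf q
  letI := algOf q'
  obtain ⟨e⟩ := exists_isBaseChange q a q' h (Or.inl ‹_›)
  unfold rk
  rw [← e.finrank_eq, Module.finrank_baseChange]

/-- The fibre along any field-valued point has the rank of the fibre. -/
theorem rk_fieldPoint {X Y : Scheme.{u}} (f : X ⟶ Y) {E : Type u} [Field E]
    (g : Spec (CommRingCat.of E) ⟶ Y) (y : Y) (hy : g (IsLocalRing.closedPoint E) = y)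
    [IsFinite (pullback.snd f (Y.fromSpecResidueField y))] :
    IsFinite (pullback.snd f g) ∧
      rk (pullback.snd f g) = rk (F := Y.residueField y) (pullback.snd f (Y.fromSpecResidueField y)) := by
  subst hy
  let φ := Scheme.descResidueField (Scheme.stalkClosedPointTo g)
  letI : Algebra (Y.residueField (g (IsLocalRing.closedPoint E))) E := φ.hom.toAlgebra
  have hg : Spec.map (CommRingCat.ofHom (algebraMap (Y.residueField (g (IsLocalRing.closedPoint E))) E)) ≫
      Y.fromSpecResidueField (g (IsLocalRing.closedPoint E)) = g :=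
    Scheme.descResidueField_stalkClosedPointTo_fromSpecResidueField E Y g
  let a : pullback f g ⟶ pullback f (Y.fromSpecResidueField (g (IsLocalRing.closedPoint E))) :=
    pullback.lift (pullback.fst f g)
      (pullback.snd f g ≫ Spec.map (CommRingCat.ofHom (algebraMap (Y.residueField (g (IsLocalRing.closedPoint E))) E)))
      (by rw [Category.assoc, hg, pullback.condition])
  have h : IsPullback a (pullback.snd f g)
      (pullback.snd f (Y.fromSpecResidueField (g (IsLocalRing.closedPoint E))))
      (Spec.map (CommRingCat.ofHom (algebraMap (Y.residueField (g (IsLocalRing.closedPoint E))) E))) := by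
    refine IsPullback.of_right ?_ (pullback.lift_snd _ _ _)
      (IsPullback.of_hasPullback f (Y.fromSpecResidueField (g (IsLocalRing.closedPoint E))))
    rw [pullback.lift_fst, hg]
    exact IsPullback.of_hasPullback f g
  haveI : IsAffine (pullback f (Y.fromSpecResidueField (g (IsLocalRing.closedPoint E)))) :=
    isAffine_of_isAffineHom (pullback.snd f (Y.fromSpecResidueField (g (IsLocalRing.closedPoint E))))
  exact ⟨MorphismProperty.of_isPullback h ‹_›, rk_baseChange _ a _ h⟩

/-- Specialisation of the rank over a discrete valuation ring. -/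
theorem rk_special_le {R : Type u} [CommRing R] [IsDomain R] [IsDiscreteValuationRing R]
    {K : Type u} [Field K] [Algebra R K] [IsFractionRing R K] {P : Scheme.{u}}
    (q : P ⟶ Spec (CommRingCat.of R)) [Flat q] [IsSeparated q] [QuasiCompact q] [LocallyQuasiFinite q]
    [LocallyOfFiniteType q]
    {P₀ : Scheme.{u}} (a₀ : P₀ ⟶ P) (q₀ : P₀ ⟶ Spec (CommRingCat.of (IsLocalRing.ResidueField R)))
    (h₀ : IsPullback a₀ q₀ q (Spec.map (CommRingCat.ofHom (algebraMap R (IsLocalRing.ResidueField R)))))
    [IsFinite q₀]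
    {P₁ : Scheme.{u}} (a₁ : P₁ ⟶ P) (q₁ : P₁ ⟶ Spec (CommRingCat.of K))
    (h₁ : IsPullback a₁ q₁ q (Spec.map (CommRingCat.ofHom (algebraMap R K)))) [IsFinite q₁] :
    rk q₀ ≤ rk q₁ := by
  classical
  letI := algOf q
  letI := algOf q₀
  letI := algOf q₁
  haveI : CompactSpace P := QuasiCompact.compactSpace_of_compactSpace q
  haveI : QuasiSeparatedSpace P := quasiSeparatedSpace_of_quasiSeparated q
  haveI : Flat (Spec.map (CommRingCat.ofHom (algebraMap R K))) := by
    rw [HasRingHomProperty.Spec_iff (P := @Flat)]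
    show (algebraMap R K).Flat
    rw [RingHom.flat_algebraMap_iff]
    exact IsLocalization.flat K (nonZeroDivisors R)
  -- the generic rank
  obtain ⟨e⟩ := exists_isBaseChange q a₁ q₁ h₁ (Or.inr ⟨inferInstance, inferInstance, inferInstance⟩)
  haveI : Module.Finite K Γ(P₁, ⊤) := by
    have := IsFinite.finite_app (f := q₁) ⊤ (isAffineOpen_top _)
    exact RingHom.finite_algebraMap.mp (this.comp (RingHom.Finite.of_surjective _
      (Scheme.ΓSpecIso (CommRingCat.of K)).symm.commRingCatIsoToRingEquiv.surjective))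
  haveI : Module.Finite K (K ⊗[R] Γ(P, ⊤)) := Module.Finite.equiv e.symm
  have hrank : Module.rank R Γ(P, ⊤) = (rk q₁ : Cardinal) := by
    rw [← IsBaseChange.rank_eq (T := K) (TensorProduct.isBaseChange R Γ(P, ⊤) K),
      ← Module.finrank_eq_rank, e.finrank_eq]
    rfl
  -- torsion freeness
  have htf : ∀ r : R, r ≠ 0 → ∀ s : Γ(P, ⊤), r • s = 0 → s = 0 := by
    intro r hr s hs
    refine P.sheaf.eq_of_locally_eq' (fun W : P.affineOpens => W.1) ⊤ (fun W => homOfLE le_top)
      (by rw [iSup_affineOpens_eq_top]) s 0 fun W => ?_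
    rw [map_zero]
    let ψ : R →+* Γ(P, W.1) := ((P.presheaf.map (homOfLE (le_top (a := W.1))).op).hom).comp (algebraMap R Γ(P, ⊤))
    have hψ : ψ.Flat := by
      have h1 := q.flat_appLE (isAffineOpen_top _) W.2 le_top
      have : ψ = (q.appLE ⊤ W.1 le_top).hom.comp
          (Scheme.ΓSpecIso (CommRingCat.of R)).symm.commRingCatIsoToRingEquiv.toRingHom := rfl
      rw [this]
      exact RingHom.Flat.comp (.of_bijective (Scheme.ΓSpecIso (CommRingCat.of R)).symm.commRingCatIsoToRingEquiv.bijective) h1
    letI := ψ.toAlgebra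
    haveI : Module.Flat R Γ(P, W.1) := hψ
    have hreg := Module.Flat.isSMulRegular_of_nonZeroDivisors (M := Γ(P, W.1))
      (mem_nonZeroDivisors_of_ne_zero hr)
    refine hreg (?_ : r • _ = r • _)
    rw [smul_zero]
    have h2 := congrArg (P.presheaf.map (homOfLE (le_top (a := W.1))).op).hom hs
    rw [map_zero, Algebra.smul_def, map_mul] at h2
    exact h2
  -- the special fibre
  let θ := a₀.appTop.hom
  have hθR : ∀ (r : R) (s : Γ(P, ⊤)), θ (r • s) = IsLocalRing.residue R r • θ s := by
    intro r s
    rw [Algebra.smul_def, Algebra.smul_def, map_mul]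
    congr 1
    exact congrArg (fun φ : CommRingCat.of R ⟶ Γ(P₀, ⊤) => φ.hom r)
      (sections_isPushout_w q a₀ q₀ h₀)
  have hθ : Function.Surjective θ := by
    haveI : IsClosedImmersion (Spec.map (CommRingCat.ofHom (algebraMap R (IsLocalRing.ResidueField R)))) :=
      IsClosedImmersion.spec_of_surjective _ IsLocalRing.residue_surjective
    haveI : IsClosedImmersion a₀ := MorphismProperty.of_isPullback h₀.flip inferInstance
    let c := a₀ ≫ q.toNormalization
    haveI : IsFinite (c ≫ q.fromNormalization) := by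
      rw [Category.assoc, q.toNormalization_fromNormalization, h₀.w]
      infer_instance
    haveI : IsFinite c := IsFinite.of_comp c q.fromNormalization
    haveI : IsClosedImmersion c := (IsClosedImmersion.iff_isFinite_and_mono c).mpr ⟨inferInstance, inferInstance⟩
    haveI : IsAffine q.normalization := isAffine_of_isAffineHom q.fromNormalization
    intro t
    obtain ⟨b, hb⟩ := (IsClosedImmersion.isAffine_surjective_of_isAffine (f := c)).2 t
    refine ⟨q.toNormalization.appTop.hom b, ?_⟩
    rw [← hb]
    rfl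
  haveI : Module.Finite (IsLocalRing.ResidueField R) Γ(P₀, ⊤) := by
    have := IsFinite.finite_app (f := q₀) ⊤ (isAffineOpen_top _)
    exact RingHom.finite_algebraMap.mp (this.comp (RingHom.Finite.of_surjective _
      (Scheme.ΓSpecIso (CommRingCat.of (IsLocalRing.ResidueField R))).symm.commRingCatIsoToRingEquiv.surjective))
  by_contra hlt
  push_neg at hlt
  obtain ⟨v, hv⟩ := exists_linearIndependent_of_le_finrank (R := IsLocalRing.ResidueField R) (M := Γ(P₀, ⊤))
    (show rk q₁ + 1 ≤ Module.finrank _ _ from hlt)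
  choose b hb using fun i => hθ (v i)
  have hbR : LinearIndependent R b := by
    rw [Fintype.linearIndependent_iff]
    obtain ⟨ϖ, hϖ⟩ := IsDiscreteValuationRing.exists_irreducible R
    suffices key : ∀ g : Fin (rk q₁ + 1) → R, ∑ i, g i • b i = 0 → ∀ i, g i ∈ IsLocalRing.maximalIdeal R by
      have hdiv : ∀ (N : ℕ) (g : Fin (rk q₁ + 1) → R), ∑ i, g i • b i = 0 → ∀ i, g i ∈ IsLocalRing.maximalIdeal R ^ N := by
        intro N
        induction N with
        | zero => simp
        | succ N ih =>
          intro g hg i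
          have hm := key g hg
          rw [hϖ.maximalIdeal_eq] at hm ih ⊢
          choose g' hg' using fun i => Ideal.mem_span_singleton'.mp (hm i)
          have h0 : ∑ i, g' i • b i = 0 := by
            refine htf ϖ hϖ.ne_zero _ ?_
            rw [Finset.smul_sum, ← hg]
            exact Finset.sum_congr rfl fun i _ => by rw [smul_smul, mul_comm, hg']
          rw [← hg' i, pow_succ]
          exact Ideal.mul_mem_mul (ih g' h0 i) (Ideal.mem_span_singleton_self ϖ)
      intro g hg i
      have : g i ∈ ⨅ N : ℕ, IsLocalRing.maximalIdeal R ^ N := Ideal.mem_iInf.mpr fun N => hdiv N g hg i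
      rwa [Ideal.iInf_pow_eq_bot_of_isLocalRing _ (IsLocalRing.maximalIdeal.isMaximal R).ne_top] at this
    intro g hg i
    rw [← IsLocalRing.residue_eq_zero_iff]
    refine Fintype.linearIndependent_iff.mp hv (fun i => IsLocalRing.residue R (g i)) ?_ i
    have := congrArg θ hg
    rw [map_sum, map_zero] at this
    rw [← this]
    exact Finset.sum_congr rfl fun i _ => by rw [hθR, hb]
  have := hbR.cardinal_lift_le_rank
  rw [hrank, Cardinal.mk_fintype, Fintype.card_fin, Cardinal.lift_natCast, Cardinal.lift_natCast] at this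
  have : rk q₁ + 1 ≤ rk q₁ := by exact_mod_cast this
  omega

attribute [local instance] Curv2.resAlgebra in
/-- A morphism of schemes of finite type over a field, of equal dimension and with regular local rings,
is flat where it is quasi-finite. -/
theorem flat_stalkMap_of_quasiFiniteAt {k : Type u} [Field k] {X Y : Scheme.{u}}
    [X.Over (Spec (CommRingCat.of k))] [Y.Over (Spec (CommRingCat.of k))]
    [LocallyOfFiniteType (X ↘ Spec (CommRingCat.of k))] [LocallyOfFiniteType (Y ↘ Spec (CommRingCat.of k))]
    [IsIntegral X] [IsIntegral Y] (f : X ⟶ Y) [LocallyOfFiniteType f]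
    (hf : f ≫ (Y ↘ Spec (CommRingCat.of k)) = X ↘ Spec (CommRingCat.of k))
    (hdim : topologicalKrullDim ↥X = topologicalKrullDim ↥Y)
    (x : X) (hq : f.QuasiFiniteAt x) (hxr : IsRegularLocalRing (X.presheaf.stalk x))
    (hyr : IsRegularLocalRing (Y.presheaf.stalk (f x))) : (f.stalkMap x).hom.Flat := by
  haveI := hxr
  haveI := hyr
  letI : Algebra (Y.presheaf.stalk (f x)) (X.presheaf.stalk x) := (f.stalkMap x).hom.toAlgebra
  haveI : IsLocalHom (algebraMap (Y.presheaf.stalk (f x)) (X.presheaf.stalk x)) :=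
    inferInstanceAs (IsLocalHom (f.stalkMap x).hom)
  haveI : LocCoh.IsCohenMacaulayLocalRing (X.presheaf.stalk x) :=
    Depth.isCohenMacaulayLocalRing_of_isRegularLocalRing
  haveI : Algebra.QuasiFinite (Y.presheaf.stalk (f x)) (X.presheaf.stalk x) := hq
  set m := IsLocalRing.maximalIdeal (Y.presheaf.stalk (f x))
  set I := m.map (algebraMap (Y.presheaf.stalk (f x)) (X.presheaf.stalk x))
  have hI : I ≤ IsLocalRing.maximalIdeal (X.presheaf.stalk x) := IsLocalRing.map_maximalIdeal_le _
  haveI : Nontrivial (X.presheaf.stalk x ⧸ I) :=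
    Ideal.Quotient.nontrivial_iff.mpr fun h => (IsLocalRing.maximalIdeal.isMaximal _).ne_top (top_le_iff.mp (h ▸ hI))
  have h0 : ringKrullDim (X.presheaf.stalk x ⧸ I) = 0 := by
    haveI : Ring.KrullDimLE 0 (X.presheaf.stalk x ⧸ I) := Ring.krullDimLE_zero_iff.mpr fun Q hQ => by
      haveI := hQ
      have hle : Q.comap (Ideal.Quotient.mk I) ≤ IsLocalRing.maximalIdeal (X.presheaf.stalk x) :=
        IsLocalRing.le_maximalIdeal (Ideal.IsPrime.ne_top inferInstance)
      have hmQ : m ≤ (Q.comap (Ideal.Quotient.mk I)).comap (algebraMap _ (X.presheaf.stalk x)) := fun z hz => by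
        show Ideal.Quotient.mk I (algebraMap _ _ z) ∈ Q
        rw [Ideal.Quotient.eq_zero_iff_mem.mpr (Ideal.mem_map_of_mem _ hz)]
        exact zero_mem _
      have e := Algebra.QuasiFinite.eq_of_le_of_under_eq (R := Y.presheaf.stalk (f x))
        (Q.comap (Ideal.Quotient.mk I)) (IsLocalRing.maximalIdeal _) hle (by
          rw [Ideal.under_def, Ideal.under_def]
          refine le_antisymm (Ideal.comap_mono hle) ?_
          rw [show (IsLocalRing.maximalIdeal (X.presheaf.stalk x)).comap (algebraMap _ _) = m from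
            IsLocalRing.maximalIdeal_comap _]
          exact hmQ)
      rw [← Ideal.map_comap_of_surjective _ Ideal.Quotient.mk_surjective Q, e]
      exact (IsLocalRing.maximalIdeal.isMaximal _).map_of_surjective_of_ker_le Ideal.Quotient.mk_surjective
        (by rw [Ideal.mk_ker]; exact hI)
    exact ringKrullDimZero_iff_ringKrullDim_eq_zero.mp inferInstance
  have hle : ringKrullDim (X.presheaf.stalk x) ≤ ringKrullDim (Y.presheaf.stalk (f x)) := by
    have := Dim.ringKrullDim_le_add_fibre (Y.presheaf.stalk (f x)) (X.presheaf.stalk x)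
    rwa [h0, add_zero] at this
  have hge : ringKrullDim (Y.presheaf.stalk (f x)) ≤ ringKrullDim (X.presheaf.stalk x) := by
    rw [ringKrullDim_stalk_eq_coheight, ringKrullDim_stalk_eq_coheight]
    obtain ⟨a, ha, hla⟩ := VarDim.localDim_eq_coheight_add k x
    obtain ⟨η, hη1, hη2, hla'⟩ := VarDim.exists_localDim_eq k x
    obtain ⟨b, hb, hlb⟩ := VarDim.localDim_eq_coheight_add k (f x)
    obtain ⟨η', hη1', hη2', hlb'⟩ := VarDim.exists_localDim_eq k (f x)
    have e1 : VarDim.dimPt k X η = VarDim.dimPt k X (genericPoint X) :=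
      le_antisymm ((VarDim.exists_ltSeries_of_le k (genericPoint_specializes η : η ≤ genericPoint X)).1)
        (hη2 _ (genericPoint_specializes x))
    have e2 : VarDim.dimPt k Y η' = VarDim.dimPt k Y (genericPoint Y) :=
      le_antisymm ((VarDim.exists_ltSeries_of_le k (genericPoint_specializes η' : η' ≤ genericPoint Y)).1)
        (hη2' _ (genericPoint_specializes (f x)))
    rw [VarDim.topologicalKrullDim_eq_of_irreducible k, VarDim.topologicalKrullDim_eq_of_irreducible k] at hdim
    have e3 : VarDim.dimPt k X (genericPoint X) = VarDim.dimPt k Y (genericPoint Y) := by exact_mod_cast hdim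
    have ea : a + VarDim.dimPt k X x = VarDim.dimPt k X η := by
      rw [hla] at hla'; exact_mod_cast hla'
    have eb : b + VarDim.dimPt k Y (f x) = VarDim.dimPt k Y η' := by
      rw [hlb] at hlb'; exact_mod_cast hlb'
    have e4 : VarDim.dimPt k X x ≤ VarDim.dimPt k Y (f x) := by
      letI := (f.residueFieldMap x).hom.toAlgebra
      haveI : IsScalarTower k (Y.residueField (f x)) (X.residueField x) :=
        IsScalarTower.of_algebraMap_eq fun c => (GenDeg86.resMap_compat f hf x c).symm
      haveI : Module.Finite (Y.residueField (f x)) (X.residueField x) := by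
        let U := f.quasiFiniteLocus
        have h1 := Wt.GeomPts.residueFieldMap_finite (U.ι ≫ f) ⟨x, hq⟩
        rw [Scheme.residueFieldMap_comp] at h1
        have hbij : Function.Bijective (U.ι.residueFieldMap ⟨x, hq⟩).hom := ConcreteCategory.bijective_of_isIso _
        let i := RingEquiv.ofBijective _ hbij
        have h3 := (RingHom.Finite.of_surjective i.symm.toRingHom i.symm.surjective).comp h1
        refine RingHom.finite_algebraMap.mp ?_
        show (f.residueFieldMap x).hom.Finite
        have e : i.symm.toRingHom.comp (f.residueFieldMap (U.ι ⟨x, hq⟩) ≫ U.ι.residueFieldMap ⟨x, hq⟩).hom =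
            (f.residueFieldMap x).hom := RingHom.ext fun z => i.symm_apply_apply _
        exact e ▸ h3
      have h2 := trdeg_add_eq k (Y.residueField (f x)) (A := X.residueField x)
      rw [trdeg_eq_zero (R := Y.residueField (f x)), add_zero] at h2
      have h3 : VarDim.dimPt k Y (f x) = VarDim.dimPt k X x := congrArg Cardinal.toNat h2
      exact h3.ge
    rw [ha, hb]
    have : b ≤ a := by omega
    exact_mod_cast this
  show Module.Flat _ _
  refine RegLoc.Miracle.flat_of_ringKrullDim_eq_add ?_
  rw [h0, add_zero]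
  exact le_antisymm hle hge

end Groth.Agent.FibRankLe
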